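import Cfsg.Agent.Lib.McL27.Pres
import Cfsg.Agent.Lib.M2R.TC
/-! Presentations of `M₂₂`, `M₂₃` and their involution centralizers on generators z s a A b B q x y v -/
set_option autoImplicit false
set_option maxRecDepth 100000
namespace H91.MR
open H54 H27.MP
def RC0 : List (List ℕ) := [[0, 0],
  [2, 2],
  [4, 4],
  [6, 6],
  [8, 8],
  [10, 10],
  [12, 12],
  [0, 2, 0, 2],
  [0, 4, 0, 4],
  [0, 6, 0, 6],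
  [0, 8, 0, 8],
  [0, 10, 0, 10],
  [0, 12, 0, 12],
  [2, 4, 2, 4],
  [2, 6, 2, 6],
  [2, 8, 2, 8],
  [2, 10, 2, 10],
  [4, 6, 4, 6],
  [8, 10, 8, 10],
  [4, 8, 4, 8, 0],
  [6, 10, 6, 10, 2],
  [4, 10, 4, 10, 0, 2],
  [6, 8, 6, 8, 0, 2],
  [12, 2, 12, 0, 2],
  [12, 4, 12, 4],
  [12, 8, 12, 8],
  [12, 6, 12, 4, 6],
  [12, 10, 12, 8, 10],
  [14, 14, 14],
  [14, 10, 14, 10],
  [14, 0, 15, 0],
  [14, 2, 15, 0, 4],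
  [14, 4, 15, 4, 0, 2],
  [14, 8, 15, 12],
  [14, 12, 15, 12, 8],
  [14, 4, 6, 2, 15, 2, 6, 4]]
def RC1 : List (List ℕ) := [[0, 0],
  [2, 2],
  [4, 4],
  [6, 6],
  [8, 8],
  [10, 10],
  [12, 12],
  [0, 2, 0, 2],
  [0, 4, 0, 4],
  [0, 6, 0, 6],
  [0, 8, 0, 8],
  [0, 10, 0, 10],
  [0, 12, 0, 12],
  [2, 4, 2, 4],
  [2, 6, 2, 6],
  [2, 8, 2, 8],
  [2, 10, 2, 10],
  [4, 6, 4, 6],
  [8, 10, 8, 10],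
  [4, 8, 4, 8, 0],
  [6, 10, 6, 10, 2],
  [4, 10, 4, 10, 0, 2],
  [6, 8, 6, 8, 0, 2],
  [12, 2, 12, 0, 2],
  [12, 4, 12, 4],
  [12, 8, 12, 8],
  [12, 6, 12, 4, 6],
  [12, 10, 12, 8, 10],
  [14, 14, 14],
  [14, 10, 14, 10],
  [14, 0, 15, 0],
  [14, 2, 15, 0, 4],
  [14, 4, 15, 4, 0, 2],
  [14, 8, 15, 12],
  [14, 12, 15, 12, 8],
  [14, 4, 6, 2, 15, 2, 6, 4],
  [16, 16, 16],
  [16, 12, 16, 12],
  [16, 0, 17, 0],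
  [16, 2, 17, 2],
  [16, 4, 17, 6],
  [16, 6, 17, 4, 6],
  [16, 8, 17, 8, 10],
  [16, 10, 17, 8],
  [16, 15, 16, 15, 16, 15]]
def R22 : List (List ℕ) := [[0, 0],
  [2, 2],
  [4, 4],
  [6, 6],
  [8, 8],
  [10, 10],
  [12, 12],
  [0, 2, 0, 2],
  [0, 4, 0, 4],
  [0, 6, 0, 6],
  [0, 8, 0, 8],
  [0, 10, 0, 10],
  [0, 12, 0, 12],
  [2, 4, 2, 4],
  [2, 6, 2, 6],
  [2, 8, 2, 8],
  [2, 10, 2, 10],
  [4, 6, 4, 6],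
  [8, 10, 8, 10],
  [4, 8, 4, 8, 0],
  [6, 10, 6, 10, 2],
  [4, 10, 4, 10, 0, 2],
  [6, 8, 6, 8, 0, 2],
  [12, 2, 12, 0, 2],
  [12, 4, 12, 4],
  [12, 8, 12, 8],
  [12, 6, 12, 4, 6],
  [12, 10, 12, 8, 10],
  [14, 14, 14],
  [14, 10, 14, 10],
  [14, 0, 15, 0],
  [14, 2, 15, 0, 4],
  [14, 4, 15, 4, 0, 2],
  [14, 8, 15, 12],
  [14, 12, 15, 12, 8],
  [14, 4, 6, 2, 15, 2, 6, 4],
  [16, 16, 16],
  [4, 16, 4, 16],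
  [16, 12, 17, 12],
  [16, 0, 17, 8],
  [16, 8, 17, 0, 8],
  [16, 2, 17, 8, 10],
  [16, 10, 17, 0, 2, 10],
  [6, 16, 6, 16, 6, 16, 6, 16, 6, 16],
  [14, 17, 14, 17, 14, 17, 14, 17, 14, 17, 14, 17, 14, 17],
  [14, 16, 14, 16, 14, 16, 14, 16, 14, 16, 14, 16, 14, 16, 14, 16],
  [17, 6, 16, 6, 16, 17, 6, 16, 6, 16, 17, 6, 16, 6, 16],
  [17, 6, 16, 6, 16, 12, 17, 6, 16, 6, 16, 12],
  [17, 6, 16, 6, 16, 0, 17, 7, 17, 7, 16, 2],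
  [17, 6, 16, 6, 16, 2, 17, 7, 17, 7, 16, 0, 2],
  [17, 6, 16, 6, 16, 4, 17, 7, 17, 7, 16, 6],
  [17, 6, 16, 6, 16, 6, 17, 7, 17, 7, 16, 4, 6],
  [17, 6, 16, 6, 16, 8, 17, 7, 17, 7, 16, 10],
  [17, 6, 16, 6, 16, 10, 17, 7, 17, 7, 16, 8, 10],
  [17, 6, 16, 6, 16, 14, 17, 6, 16, 6, 16, 14, 17, 6, 16, 6, 16, 14, 17, 6, 16, 6, 16, 14, 17, 6, 16, 6, 16, 14],
  [17, 6, 16, 6, 16, 15, 17, 6, 16, 6, 16, 15, 17, 6, 16, 6, 16, 15, 17, 6, 16, 6, 16, 15, 17, 6, 16, 6, 16, 15, 17, 6, 16, 6, 16, 15, 17, 6, 16, 6, 16, 15, 17, 6, 16, 6, 16, 15]]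
def R23 : List (List ℕ) := [[0, 0],
  [2, 2],
  [4, 4],
  [6, 6],
  [8, 8],
  [10, 10],
  [12, 12],
  [0, 2, 0, 2],
  [0, 4, 0, 4],
  [0, 6, 0, 6],
  [0, 8, 0, 8],
  [0, 10, 0, 10],
  [0, 12, 0, 12],
  [2, 4, 2, 4],
  [2, 6, 2, 6],
  [2, 8, 2, 8],
  [2, 10, 2, 10],
  [4, 6, 4, 6],
  [8, 10, 8, 10],
  [4, 8, 4, 8, 0],
  [6, 10, 6, 10, 2],
  [4, 10, 4, 10, 0, 2],
  [6, 8, 6, 8, 0, 2],
  [12, 2, 12, 0, 2],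
  [12, 4, 12, 4],
  [12, 8, 12, 8],
  [12, 6, 12, 4, 6],
  [12, 10, 12, 8, 10],
  [14, 14, 14],
  [14, 10, 14, 10],
  [14, 0, 15, 0],
  [14, 2, 15, 0, 4],
  [14, 4, 15, 4, 0, 2],
  [14, 8, 15, 12],
  [14, 12, 15, 12, 8],
  [14, 4, 6, 2, 15, 2, 6, 4],
  [16, 16, 16],
  [4, 16, 4, 16],
  [16, 12, 17, 12],
  [16, 0, 17, 8],
  [16, 8, 17, 0, 8],
  [16, 2, 17, 8, 10],
  [16, 10, 17, 0, 2, 10],
  [6, 16, 6, 16, 6, 16, 6, 16, 6, 16],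
  [14, 17, 14, 17, 14, 17, 14, 17, 14, 17, 14, 17, 14, 17],
  [14, 16, 14, 16, 14, 16, 14, 16, 14, 16, 14, 16, 14, 16, 14, 16],
  [17, 6, 16, 6, 16, 17, 6, 16, 6, 16, 17, 6, 16, 6, 16],
  [17, 6, 16, 6, 16, 12, 17, 6, 16, 6, 16, 12],
  [17, 6, 16, 6, 16, 0, 17, 7, 17, 7, 16, 2],
  [17, 6, 16, 6, 16, 2, 17, 7, 17, 7, 16, 0, 2],
  [17, 6, 16, 6, 16, 4, 17, 7, 17, 7, 16, 6],
  [17, 6, 16, 6, 16, 6, 17, 7, 17, 7, 16, 4, 6],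
  [17, 6, 16, 6, 16, 8, 17, 7, 17, 7, 16, 10],
  [17, 6, 16, 6, 16, 10, 17, 7, 17, 7, 16, 8, 10],
  [17, 6, 16, 6, 16, 14, 17, 6, 16, 6, 16, 14, 17, 6, 16, 6, 16, 14, 17, 6, 16, 6, 16, 14, 17, 6, 16, 6, 16, 14],
  [17, 6, 16, 6, 16, 15, 17, 6, 16, 6, 16, 15, 17, 6, 16, 6, 16, 15, 17, 6, 16, 6, 16, 15, 17, 6, 16, 6, 16, 15, 17, 6, 16, 6, 16, 15, 17, 6, 16, 6, 16, 15, 17, 6, 16, 6, 16, 15],
  [18, 18, 18],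
  [18, 12, 18, 12],
  [18, 0, 19, 0],
  [18, 2, 19, 2],
  [18, 4, 19, 6],
  [18, 6, 19, 4, 6],
  [18, 8, 19, 8, 10],
  [18, 10, 19, 8],
  [18, 15, 18, 15, 18, 15],
  [17, 6, 16, 6, 16, 19, 16, 18, 17, 7, 17, 7]]
theorem bndC0 : Bnd RC0 8 384 :=
  Bnd.tc bndT (n := 3) (fun g ω => T54.H91C0.enum g ω) (by decide) [0, 2, 4, 6, 8, 10, 12, 14, 15] rfl (icol_ge _ rfl)
    [[0],
  [2],
  [4],
  [6],
  [8],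
  [10],
  [12]]
    [([14, 15], []),
  ([15, 14], [])]
    (by decide +kernel)
theorem bndC1 : Bnd RC1 9 2688 :=
  Bnd.tc bndC0 (n := 7) (fun g ω => T54.H91C1.enum g ω) (by decide) [0, 2, 4, 6, 8, 10, 12, 14, 15, 16, 17] rfl (icol_ge _ rfl)
    [[0],
  [2],
  [4],
  [6],
  [8],
  [10],
  [12],
  [14]]
    [([14, 15], []),
  ([15, 14], []),
  ([16, 17], []),
  ([17, 16], [])]
    (by decide +kernel)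
theorem bnd22 : Bnd R22 9 443520 :=
  Bnd.tc bnd1 (n := 77) (fun g ω => T54.H91M22.enum g ω) (by decide) [0, 2, 4, 6, 8, 10, 12, 14, 15, 16, 17] rfl (icol_ge _ rfl)
    [[0],
  [2],
  [4],
  [6],
  [8],
  [10],
  [12],
  [14],
  [17, 6, 16, 6, 16]]
    [([14, 15], []),
  ([15, 14], []),
  ([16, 17], []),
  ([17, 16], []),
  ([17, 6, 16, 6, 16, 0, 17, 6, 17, 6, 16, 2], [([], 97), ([17, 6, 16, 6, 16, 0, 17, 7, 17], 7), ([17, 6, 16, 6, 16, 0, 17], 7)]),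
  ([17, 6, 16, 6, 16, 2, 17, 6, 17, 6, 16, 0, 2], [([], 99), ([17, 6, 16, 6, 16, 2, 17, 7, 17], 7), ([17, 6, 16, 6, 16, 2, 17], 7)]),
  ([17, 6, 16, 6, 16, 4, 17, 6, 17, 6, 16, 6], [([], 101), ([17, 6, 16, 6, 16, 4, 17, 7, 17], 7), ([17, 6, 16, 6, 16, 4, 17], 7)]),
  ([17, 6, 16, 6, 16, 6, 17, 6, 17, 6, 16, 4, 6], [([], 103), ([17, 6, 16, 6, 16, 6, 17, 7, 17], 7), ([17, 6, 16, 6, 16, 6, 17], 7)]),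
  ([17, 6, 16, 6, 16, 8, 17, 6, 17, 6, 16, 10], [([], 105), ([17, 6, 16, 6, 16, 8, 17, 7, 17], 7), ([17, 6, 16, 6, 16, 8, 17], 7)]),
  ([17, 6, 16, 6, 16, 10, 17, 6, 17, 6, 16, 8, 10], [([], 107), ([17, 6, 16, 6, 16, 10, 17, 7, 17], 7), ([17, 6, 16, 6, 16, 10, 17], 7)])]
    (by decide +kernel)
theorem bnd23 : Bnd R23 10 10200960 :=
  Bnd.tc bnd22 (n := 23) (fun g ω => T54.H91M23.enum g ω) (by decide) [0, 2, 4, 6, 8, 10, 12, 14, 15, 16, 17, 18, 19] rfl (icol_ge _ rfl)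
    [[0],
  [2],
  [4],
  [6],
  [8],
  [10],
  [12],
  [14],
  [16]]
    [([14, 15], []),
  ([15, 14], []),
  ([16, 17], []),
  ([17, 16], []),
  ([18, 19], []),
  ([19, 18], []),
  ([17, 6, 16, 6, 16, 0, 17, 6, 17, 6, 16, 2], [([], 97), ([17, 6, 16, 6, 16, 0, 17, 7, 17], 7), ([17, 6, 16, 6, 16, 0, 17], 7)]),
  ([17, 6, 16, 6, 16, 2, 17, 6, 17, 6, 16, 0, 2], [([], 99), ([17, 6, 16, 6, 16, 2, 17, 7, 17], 7), ([17, 6, 16, 6, 16, 2, 17], 7)]),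
  ([17, 6, 16, 6, 16, 4, 17, 6, 17, 6, 16, 6], [([], 101), ([17, 6, 16, 6, 16, 4, 17, 7, 17], 7), ([17, 6, 16, 6, 16, 4, 17], 7)]),
  ([17, 6, 16, 6, 16, 6, 17, 6, 17, 6, 16, 4, 6], [([], 103), ([17, 6, 16, 6, 16, 6, 17, 7, 17], 7), ([17, 6, 16, 6, 16, 6, 17], 7)]),
  ([17, 6, 16, 6, 16, 8, 17, 6, 17, 6, 16, 10], [([], 105), ([17, 6, 16, 6, 16, 8, 17, 7, 17], 7), ([17, 6, 16, 6, 16, 8, 17], 7)]),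
  ([17, 6, 16, 6, 16, 10, 17, 6, 17, 6, 16, 8, 10], [([], 107), ([17, 6, 16, 6, 16, 10, 17, 7, 17], 7), ([17, 6, 16, 6, 16, 10, 17], 7)]),
  ([17, 6, 16, 6, 16, 19, 16, 18, 17, 6, 17, 6], [([], 131), ([17, 6, 16, 6, 16, 19, 16, 18, 17, 7, 17], 7), ([17, 6, 16, 6, 16, 19, 16, 18, 17], 7)])]
    (by decide +kernel)
theorem eqns_pres : True := by
  have := @RC0.eq_1
  have := @RC1.eq_1
  have := @R22.eq_1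
  have := @R23.eq_1
  trivial
end H91.MR
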